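import Mathlib

/-!
Poisson summation for Gaussians attached to a unimodular lattice in `ℝⁿ`.
-/

set_option autoImplicit false

noncomputable section

open MeasureTheory Matrix Complex Filter Topology Set
open scoped Real

namespace CfsgLib.Theta

variable {n : ℕ}

/-- `Σ (A x)ᵢ²`. -/
def sqA (A : Matrix (Fin n) (Fin n) ℝ) (x : Fin n → ℝ) : ℝ := ∑ i, (A *ᵥ x) i ^ 2

/-- An integer vector as a real vector. -/
def iv (m : Fin n → ℤ) : Fin n → ℝ := fun i => (m i : ℝ)

/-- The Gaussian `exp(π i τ |A x|²)`. -/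
def gauss (A : Matrix (Fin n) (Fin n) ℝ) (τ : ℂ) (x : Fin n → ℝ) : ℂ :=
  cexp ((π : ℂ) * I * τ * (sqA A x : ℂ))

theorem norm_gauss (A : Matrix (Fin n) (Fin n) ℝ) (τ : ℂ) (x : Fin n → ℝ) :
    ‖gauss A τ x‖ = Real.exp (-(π * τ.im * sqA A x)) := by
  rw [gauss, Complex.norm_exp]
  congr 1
  simp [Complex.mul_re, Complex.mul_im]

theorem exists_lower_bound (A : Matrix (Fin n) (Fin n) ℝ) (hA : A.det ≠ 0) :
    ∃ ε : ℝ, 0 < ε ∧ ∀ x, ε * ∑ i, x i ^ 2 ≤ sqA A x := by
  set K : ℝ := ∑ i, ∑ j, A⁻¹ i j ^ 2 + 1 with hK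
  have hKpos : 0 < K := by positivity
  refine ⟨K⁻¹, inv_pos.2 hKpos, fun x => ?_⟩
  rw [inv_mul_le_iff₀ hKpos]
  have hx : x = A⁻¹ *ᵥ (A *ᵥ x) := by
    rw [Matrix.mulVec_mulVec, Matrix.nonsing_inv_mul A (isUnit_iff_ne_zero.2 hA), Matrix.one_mulVec]
  have h0 : 0 ≤ sqA A x := by unfold sqA; positivity
  calc ∑ i, x i ^ 2 ≤ ∑ i, (∑ j, A⁻¹ i j ^ 2) * sqA A x := by
        refine Finset.sum_le_sum fun i _ => ?_
        conv_lhs => rw [hx]
        exact Finset.sum_mul_sq_le_sq_mul_sq Finset.univ (fun j => A⁻¹ i j) (A *ᵥ x)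
    _ = (∑ i, ∑ j, A⁻¹ i j ^ 2) * sqA A x := by rw [Finset.sum_mul]
    _ ≤ K * sqA A x := mul_le_mul_of_nonneg_right (by rw [hK]; linarith) h0

theorem summable_exp_neg_mul_int_sq {c : ℝ} (hc : 0 < c) :
    Summable fun m : ℤ => Real.exp (-(c * (m : ℝ) ^ 2)) := by
  have h : Summable fun k : ℕ => Real.exp (-c) ^ k :=
    summable_geometric_of_lt_one (Real.exp_nonneg _) (Real.exp_lt_one_iff.2 (by linarith))
  have hle : ∀ k : ℕ, Real.exp (-(c * (k : ℝ) ^ 2)) ≤ Real.exp (-c) ^ k := by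
    intro k
    rw [← Real.exp_nat_mul]
    apply Real.exp_le_exp.2
    have : (k : ℝ) ≤ (k : ℝ) ^ 2 := by exact_mod_cast Nat.le_self_pow two_ne_zero k
    nlinarith
  refine Summable.of_nat_of_neg ?_ ?_
  · exact Summable.of_nonneg_of_le (fun k => (Real.exp_nonneg _)) (fun k => by simpa using hle k) h
  · exact Summable.of_nonneg_of_le (fun k => (Real.exp_nonneg _)) (fun k => by simpa using hle k) h

theorem summable_exp_neg_mul_sum_sq {c : ℝ} (hc : 0 < c) : ∀ k : ℕ,
    Summable fun m : Fin k → ℤ => Real.exp (-(c * ∑ i, (m i : ℝ) ^ 2)) := by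
  intro k
  induction k with
  | zero => exact Summable.of_finite
  | succ k ih =>
    rw [← (Fin.consEquiv fun _ => ℤ).summable_iff]
    refine ((summable_exp_neg_mul_int_sq hc).mul_of_nonneg ih (fun _ => Real.exp_nonneg _)
      (fun _ => Real.exp_nonneg _)).congr ?_
    intro p
    simp [Fin.sum_univ_succ, ← Real.exp_add, mul_add, add_comm]

theorem summable_exp_sqA (A : Matrix (Fin n) (Fin n) ℝ) (hA : A.det ≠ 0) {t : ℝ} (ht : 0 < t) :
    Summable fun m : Fin n → ℤ => Real.exp (-(t * sqA A (iv m))) := by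
  obtain ⟨ε, hε, h⟩ := exists_lower_bound A hA
  refine Summable.of_nonneg_of_le (fun _ => Real.exp_nonneg _) (fun m => ?_)
    (summable_exp_neg_mul_sum_sq (mul_pos ht hε) n)
  apply Real.exp_le_exp.2
  have := h (iv m)
  simp only [iv] at this ⊢
  nlinarith

theorem summable_gauss (A : Matrix (Fin n) (Fin n) ℝ) (hA : A.det ≠ 0) {τ : ℂ} (hτ : 0 < τ.im) :
    Summable fun m : Fin n → ℤ => gauss A τ (iv m) := by
  apply Summable.of_norm
  simp only [norm_gauss]
  exact summable_exp_sqA A hA (by positivity)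

theorem continuous_sqA (A : Matrix (Fin n) (Fin n) ℝ) : Continuous (sqA A) := by
  unfold sqA
  simp only [Matrix.mulVec, dotProduct]
  fun_prop

theorem continuous_gauss (A : Matrix (Fin n) (Fin n) ℝ) (τ : ℂ) : Continuous (gauss A τ) := by
  unfold gauss
  have := continuous_sqA A
  fun_prop

theorem gauss_shift_bound (A : Matrix (Fin n) (Fin n) ℝ) (hA : A.det ≠ 0) {τ : ℂ} (hτ : 0 < τ.im)
    (R : ℝ) : ∃ u : (Fin n → ℤ) → ℝ, Summable u ∧
      ∀ m x, ‖x‖ ≤ R → ‖gauss A τ (x + iv m)‖ ≤ u m := by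
  obtain ⟨ε, hε, h⟩ := exists_lower_bound A hA
  set c := π * τ.im * ε with hc
  have hcpos : 0 < c := by positivity
  refine ⟨fun m => Real.exp (c * (n * R ^ 2)) * Real.exp (-(c / 2 * ∑ i, (m i : ℝ) ^ 2)),
    (summable_exp_neg_mul_sum_sq (half_pos hcpos) n).mul_left _, fun m x hx => ?_⟩
  simp only [norm_gauss, ← Real.exp_add]
  apply Real.exp_le_exp.2
  have h1 := h (x + iv m)
  have h2 : ∑ i, ((m i : ℝ) ^ 2 / 2 - R ^ 2) ≤ ∑ i, (x + iv m) i ^ 2 := by
    refine Finset.sum_le_sum fun i _ => ?_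
    have hxi : |x i| ≤ R := by
      simpa [Real.norm_eq_abs] using le_trans (norm_le_pi_norm x i) hx
    have := abs_le.1 hxi
    simp only [Pi.add_apply, iv]
    nlinarith [sq_nonneg ((m i : ℝ) + 2 * x i)]
  rw [Finset.sum_sub_distrib, ← Finset.sum_div] at h2
  simp only [Finset.sum_const, Finset.card_univ, Fintype.card_fin, nsmul_eq_mul] at h2
  have h3 : π * τ.im * (ε * ∑ i, (x + iv m) i ^ 2) ≤ π * τ.im * sqA A (x + iv m) :=
    mul_le_mul_of_nonneg_left h1 (by positivity)
  have h4 := mul_le_mul_of_nonneg_left h2 hcpos.le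
  rw [hc] at h4 ⊢
  nlinarith

/-- Periodisation of the Gaussian. -/
def periodic (A : Matrix (Fin n) (Fin n) ℝ) (τ : ℂ) (x : Fin n → ℝ) : ℂ :=
  ∑' m : Fin n → ℤ, gauss A τ (x + iv m)

theorem periodic_add_iv (A : Matrix (Fin n) (Fin n) ℝ) (τ : ℂ) (x : Fin n → ℝ) (k : Fin n → ℤ) :
    periodic A τ (x + iv k) = periodic A τ x := by
  unfold periodic
  rw [← (Equiv.addLeft k).tsum_eq (fun m => gauss A τ (x + iv m))]
  refine tsum_congr fun m => ?_
  congr 1
  funext i
  simp [iv, add_assoc]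

theorem continuous_periodic (A : Matrix (Fin n) (Fin n) ℝ) (hA : A.det ≠ 0) {τ : ℂ} (hτ : 0 < τ.im) :
    Continuous (periodic A τ) := by
  rw [continuous_iff_continuousAt]
  intro x
  obtain ⟨u, hu, hb⟩ := gauss_shift_bound A hA hτ (‖x‖ + 1)
  have hs : ContinuousOn (periodic A τ) (Metric.closedBall 0 (‖x‖ + 1)) := by
    refine continuousOn_tsum (fun m => ?_) hu ?_
    · exact ((continuous_gauss A τ).comp (by fun_prop)).continuousOn
    · intro m y hy
      exact hb m y (by simpa using hy)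
  refine hs.continuousAt (Filter.mem_of_superset (Metric.ball_mem_nhds x one_pos) ?_)
  intro y hy
  simp only [Metric.mem_ball, dist_eq_norm] at hy
  simp only [Metric.mem_closedBall, dist_zero_right]
  have : ‖y‖ ≤ ‖x‖ + ‖y - x‖ := by
    calc ‖y‖ = ‖x + (y - x)‖ := by rw [add_sub_cancel]
      _ ≤ _ := norm_add_le _ _
  linarith

theorem isOpenQuotientMap_torus :
    IsOpenQuotientMap (fun x : Fin n → ℝ => (fun i => (x i : UnitAddCircle) : UnitAddTorus (Fin n))) :=
  IsOpenQuotientMap.piMap fun _ : Fin n => QuotientAddGroup.isOpenQuotientMap_mk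

/-- Periodisation on the torus. -/
def periodicTorus (A : Matrix (Fin n) (Fin n) ℝ) (τ : ℂ) (t : UnitAddTorus (Fin n)) : ℂ :=
  periodic A τ fun i => ((AddCircle.equivIco (1 : ℝ) 0 (t i) : ℝ))

theorem periodicTorus_mk (A : Matrix (Fin n) (Fin n) ℝ) (τ : ℂ) (x : Fin n → ℝ) :
    periodicTorus A τ (fun i => (x i : UnitAddCircle)) = periodic A τ x := by
  have h : ∀ i, ∃ k : ℤ, ((AddCircle.equivIco (1 : ℝ) 0 (x i : UnitAddCircle) : ℝ)) = x i + k := by
    intro i
    refine ⟨-⌊x i⌋, ?_⟩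
    rw [AddCircle.coe_equivIco_mk_apply]
    simp [Int.fract, sub_eq_add_neg]
  choose k hk using h
  unfold periodicTorus
  rw [← periodic_add_iv A τ x k]
  exact congrArg (periodic A τ) (funext hk)

theorem continuous_periodicTorus (A : Matrix (Fin n) (Fin n) ℝ) (hA : A.det ≠ 0) {τ : ℂ}
    (hτ : 0 < τ.im) : Continuous (periodicTorus A τ) := by
  rw [isOpenQuotientMap_torus.isQuotientMap.continuous_iff]
  exact (continuous_periodic A hA hτ).congr fun x => (periodicTorus_mk A τ x).symm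

theorem mFourier_mk (k : Fin n → ℤ) (x : Fin n → ℝ) :
    UnitAddTorus.mFourier k (fun i => (x i : UnitAddCircle))
      = cexp (2 * π * I * ∑ i, (k i : ℂ) * x i) := by
  simp only [UnitAddTorus.mFourier, ContinuousMap.coe_mk, fourier_coe_apply]
  rw [← Complex.exp_sum]
  congr 1
  rw [Finset.mul_sum]
  exact Finset.sum_congr rfl fun i _ => by simp [mul_assoc]

theorem norm_cexp_two_pi (k : Fin n → ℤ) (x : Fin n → ℝ) :
    ‖cexp (2 * π * I * ∑ i, (k i : ℂ) * x i)‖ = 1 := by
  rw [Complex.norm_exp]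
  simp [Complex.mul_re, Complex.mul_im]

theorem cexp_two_pi_shift (k m : Fin n → ℤ) (x : Fin n → ℝ) :
    cexp (2 * π * I * ∑ i, (k i : ℂ) * ((x + iv m) i : ℝ))
      = cexp (2 * π * I * ∑ i, (k i : ℂ) * x i) := by
  rw [Complex.exp_eq_exp_iff_exists_int]
  refine ⟨∑ i, k i * m i, ?_⟩
  simp only [Pi.add_apply, iv, Complex.ofReal_add, Complex.ofReal_intCast, mul_add,
    Finset.sum_add_distrib]
  push_cast
  ring

theorem integrable_gauss (A : Matrix (Fin n) (Fin n) ℝ) (hA : A.det ≠ 0) {τ : ℂ} (hτ : 0 < τ.im) :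
    Integrable (gauss A τ) := by
  obtain ⟨ε, hε, h⟩ := exists_lower_bound A hA
  set c := π * τ.im * ε with hc
  have hcpos : 0 < c := by positivity
  have hg : Integrable (fun v : Fin n → ℝ => cexp (-(c : ℂ) * ∑ i, (v i : ℂ) ^ 2 + ∑ i, (0 : ℂ) * v i)) :=
    GaussianFourier.integrable_cexp_neg_mul_sum_add (by simpa using hcpos) fun _ => 0
  refine Integrable.mono hg (continuous_gauss A τ).aestronglyMeasurable (.of_forall fun x => ?_)
  rw [norm_gauss, Complex.norm_exp]
  apply Real.exp_le_exp.2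
  have h3 : π * τ.im * (ε * ∑ i, x i ^ 2) ≤ π * τ.im * sqA A x :=
    mul_le_mul_of_nonneg_left (h x) (by positivity)
  simp [Complex.mul_re, hc, ← Complex.ofReal_pow]
  linarith

theorem integrable_gauss_mul (A : Matrix (Fin n) (Fin n) ℝ) (hA : A.det ≠ 0) {τ : ℂ} (hτ : 0 < τ.im)
    (k : Fin n → ℤ) :
    Integrable fun x => cexp (2 * π * I * ∑ i, (k i : ℂ) * x i) * gauss A τ x := by
  refine (integrable_gauss A hA hτ).bdd_mul (c := 1) ?_ (.of_forall fun x => ?_)
  · exact Continuous.aestronglyMeasurable (by fun_prop)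
  · rw [norm_cexp_two_pi]

theorem mFourierCoeff_periodicTorus (A : Matrix (Fin n) (Fin n) ℝ) (hA : A.det ≠ 0) {τ : ℂ}
    (hτ : 0 < τ.im) (k : Fin n → ℤ) :
    UnitAddTorus.mFourierCoeff (periodicTorus A τ) k
      = ∫ x : Fin n → ℝ, cexp (2 * π * I * ∑ i, ((-k) i : ℂ) * x i) * gauss A τ x := by
  rw [UnitAddTorus.mFourierCoeff_eq_integral _ _ (0 : Fin n → ℝ)]
  set box : Set (Fin n → ℝ) := {x | ∀ i, x i ∈ Set.Ioc ((0 : Fin n → ℝ) i) ((0 : Fin n → ℝ) i + 1)} with hbox
  set h : (Fin n → ℝ) → ℂ := fun x => cexp (2 * π * I * ∑ i, ((-k) i : ℂ) * x i) * gauss A τ x with hh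
  have hbm : MeasurableSet box := by
    rw [hbox, Set.setOf_forall]
    exact MeasurableSet.iInter fun i => measurableSet_Ioc.preimage (measurable_pi_apply i)
  have hfin : volume box < ⊤ := by
    refine lt_of_le_of_lt (measure_mono (t := Metric.closedBall 0 1) fun x hx => ?_)
      (measure_closedBall_lt_top)
    rw [Metric.mem_closedBall, dist_zero_right, pi_norm_le_iff_of_nonneg zero_le_one]
    intro i
    have := hx i
    simp only [Pi.zero_apply, zero_add, Set.mem_Ioc] at this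
    rw [Real.norm_eq_abs, abs_le]
    exact ⟨by linarith, this.2⟩
  obtain ⟨u, hu, hb⟩ := gauss_shift_bound A hA hτ 1
  haveI : IsFiniteMeasure (volume.restrict box) := isFiniteMeasure_restrict.2 hfin.ne
  have key : HasSum (fun m : Fin n → ℤ => ∫ x in box, h (x + iv m))
      (∫ x in box, UnitAddTorus.mFourier (-k) (fun i => (x i : UnitAddCircle)) •
        periodicTorus A τ (fun i => (x i : UnitAddCircle))) := by
    refine hasSum_integral_of_dominated_convergence (fun m _ => u m) (fun m => ?_) (fun m => ?_)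
      (.of_forall fun _ => hu) (integrable_const _) (.of_forall fun x => ?_)
    · refine Continuous.aestronglyMeasurable ?_
      have := continuous_gauss A τ
      simp only [hh]
      fun_prop
    · rw [ae_restrict_iff' hbm]
      refine .of_forall fun x hx => ?_
      simp only [hh, norm_mul, norm_cexp_two_pi, one_mul]
      apply hb m x
      rw [pi_norm_le_iff_of_nonneg zero_le_one]
      intro i
      have := hx i
      simp only [Pi.zero_apply, zero_add, Set.mem_Ioc] at this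
      rw [Real.norm_eq_abs, abs_le]
      exact ⟨by linarith, this.2⟩
    · rw [periodicTorus_mk, mFourier_mk, smul_eq_mul]
      simp only [hh, cexp_two_pi_shift]
      apply HasSum.mul_left
      obtain ⟨u', hu', hb'⟩ := gauss_shift_bound A hA hτ ‖x‖
      exact (Summable.of_norm_bounded hu' fun m => hb' m x le_rfl).hasSum
  rw [← key.tsum_eq]
  set T : (Fin n → ℤ) → Set (Fin n → ℝ) := fun m => {x | ∀ i, x i ∈ Set.Ioc (m i : ℝ) ((m i : ℝ) + 1)} with hT
  have htrans : ∀ m, ∫ x in box, h (x + iv m) = ∫ x in T m, h x := by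
    intro m
    have hp : (fun x => x + iv m) ⁻¹' T m = box := by
      ext x
      simp only [hT, hbox, iv, Set.mem_preimage, Set.mem_setOf_eq, Pi.add_apply, Pi.zero_apply,
        Set.mem_Ioc, zero_add]
      refine forall_congr' fun i => ?_
      constructor <;> intro hi <;> constructor <;> linarith [hi.1, hi.2]
    rw [← hp]
    exact (measurePreserving_add_right volume (iv m)).setIntegral_preimage_emb
      (MeasurableEquiv.addRight (iv m)).measurableEmbedding h (T m)
  simp only [htrans]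
  have hunion : (⋃ m, T m) = Set.univ := by
    refine Set.eq_univ_of_forall fun x => Set.mem_iUnion.2 ⟨fun i => ⌈x i⌉ - 1, fun i => ?_⟩
    push_cast
    constructor
    · linarith [Int.ceil_lt_add_one (x i)]
    · linarith [Int.le_ceil (x i)]
  have hd : Pairwise (Function.onFun Disjoint T) := by
    intro m m' hne
    rw [Function.onFun, Set.disjoint_left]
    intro x hx hx'
    apply hne
    funext i
    have a := hx i
    have b := hx' i
    simp only [Set.mem_Ioc] at a b
    have h1 : (m i : ℝ) < (m' i : ℝ) + 1 := by linarith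
    have h2 : (m' i : ℝ) < (m i : ℝ) + 1 := by linarith
    norm_cast at h1 h2
    omega
  have hm : ∀ m, MeasurableSet (T m) := by
    intro m
    simp only [hT, Set.setOf_forall]
    exact MeasurableSet.iInter fun i => measurableSet_Ioc.preimage (measurable_pi_apply i)
  have hint : Integrable h := integrable_gauss_mul A hA hτ (-k)
  have := hasSum_integral_iUnion hm hd hint.integrableOn
  rw [this.tsum_eq, hunion, setIntegral_univ]

theorem integral_gauss_mul (A : Matrix (Fin n) (Fin n) ℝ) (hA : |A.det| = 1) {τ : ℂ} (hτ : 0 < τ.im)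
    (k : Fin n → ℤ) (l : Fin n → ℝ) (hk : ∀ x, ∑ i, (k i : ℝ) * x i = ∑ i, (A *ᵥ l) i * (A *ᵥ x) i) :
    ∫ x : Fin n → ℝ, cexp (2 * π * I * ∑ i, ((-k) i : ℂ) * x i) * gauss A τ x
      = (I / τ) ^ (n / 2 : ℂ) * gauss A (-τ⁻¹) l := by
  have hdet : A.det ≠ 0 := fun h => by simp [h] at hA
  set w := A *ᵥ l with hw
  set g : (Fin n → ℝ) → ℂ := fun y => cexp (-(-(π * I * τ)) * ∑ i, (y i : ℂ) ^ 2
    + ∑ i, (-(2 * π * I) * w i) * y i) with hg
  have hpre : ∀ x, cexp (2 * π * I * ∑ i, ((-k) i : ℂ) * x i) * gauss A τ x = g (A *ᵥ x) := by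
    intro x
    simp only [hg, gauss, sqA, ← Complex.exp_add]
    congr 1
    have h2 : (∑ i, ((-k) i : ℂ) * x i) = -(∑ i, (w i : ℂ) * ((A *ᵥ x) i : ℂ)) := by
      have := congrArg (fun r : ℝ => -(r : ℂ)) (hk x)
      push_cast at this
      simpa [Finset.sum_neg_distrib] using this
    rw [h2]
    push_cast
    rw [show ∑ i, -(2 * ↑π * I) * (w i : ℂ) * ((A *ᵥ x) i : ℂ)
      = -(2 * ↑π * I) * ∑ i, (w i : ℂ) * ((A *ᵥ x) i : ℂ) by
        rw [Finset.mul_sum]; exact Finset.sum_congr rfl fun i _ => by ring]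
    ring
  simp only [hpre]
  have hmp : MeasurePreserving (Matrix.toLin' A) volume volume := by
    refine ⟨(LinearMap.continuous_of_finiteDimensional _).measurable, ?_⟩
    rw [Real.map_matrix_volume_pi_eq_smul_volume_pi hdet, abs_inv, hA, inv_one, ENNReal.ofReal_one,
      one_smul]
  have hemb : MeasurableEmbedding (Matrix.toLin' A) := by
    apply Continuous.measurableEmbedding (LinearMap.continuous_of_finiteDimensional _)
    intro a b hab
    simp only [Matrix.toLin'_apply] at hab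
    exact Matrix.mulVec_injective_iff_isUnit.2 ((A.isUnit_iff_isUnit_det).2 (isUnit_iff_ne_zero.2 hdet)) hab
  have := hmp.integral_comp hemb g
  simp only [Matrix.toLin'_apply] at this
  rw [this]
  have hτ0 : τ ≠ 0 := fun h => by simp [h] at hτ
  have hb : 0 < (-(π * I * τ) : ℂ).re := by
    simp [Complex.mul_re, Complex.mul_im]
    positivity
  simp only [hg]
  rw [GaussianFourier.integral_cexp_neg_mul_sum_add hb, Fintype.card_fin]
  have hpi : (π : ℂ) ≠ 0 := by exact_mod_cast Real.pi_ne_zero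
  congr 1
  · congr 1
    field_simp
    simp [Complex.I_sq]
  · simp only [gauss, sqA, ← hw]
    congr 1
    push_cast
    rw [Finset.mul_sum, Finset.sum_div]
    refine Finset.sum_congr rfl fun i _ => ?_
    field_simp
    ring_nf

/-- Poisson summation for the Gaussian of a unimodular lattice: here `L` is the bijection
`l ↦ AᵀA l` of `ℤⁿ`. -/
theorem tsum_gauss_transform (A : Matrix (Fin n) (Fin n) ℝ) (hA : |A.det| = 1) {τ : ℂ}
    (hτ : 0 < τ.im) (L : (Fin n → ℤ) ≃ (Fin n → ℤ))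
    (hL : ∀ l x, ∑ i, (L l i : ℝ) * x i = ∑ i, (A *ᵥ iv l) i * (A *ᵥ x) i) :
    ∑' m : Fin n → ℤ, gauss A τ (iv m)
      = (I / τ) ^ (n / 2 : ℂ) * ∑' l : Fin n → ℤ, gauss A (-τ⁻¹) (iv l) := by
  have hdet : A.det ≠ 0 := fun h => by simp [h] at hA
  let F : C(UnitAddTorus (Fin n), ℂ) := ⟨periodicTorus A τ, continuous_periodicTorus A hdet hτ⟩
  have hcoef : ∀ l, UnitAddTorus.mFourierCoeff F (L l)
      = (I / τ) ^ (n / 2 : ℂ) * gauss A (-τ⁻¹) (iv l) := by
    intro l
    show UnitAddTorus.mFourierCoeff (periodicTorus A τ) (L l) = _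
    rw [mFourierCoeff_periodicTorus A hdet hτ, integral_gauss_mul A hA hτ (L l) (iv l) (hL l)]
  have him : 0 < (-τ⁻¹).im := by
    have hτ0 : τ ≠ 0 := fun h => by simp [h] at hτ
    simp only [Complex.neg_im, Complex.inv_im, neg_div, neg_neg]
    exact div_pos hτ (Complex.normSq_pos.2 hτ0)
  have hsum : Summable (UnitAddTorus.mFourierCoeff F) := by
    rw [← L.summable_iff]
    exact (((summable_gauss A hdet him).mul_left _)).congr fun l => (hcoef l).symm
  have h0 := UnitAddTorus.hasSum_mFourier_series_apply_of_summable hsum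
    (fun i => ((0 : Fin n → ℝ) i : UnitAddCircle))
  simp only [mFourier_mk, Pi.zero_apply, Complex.ofReal_zero, mul_zero, Finset.sum_const_zero,
    Complex.exp_zero, smul_eq_mul, mul_one] at h0
  have hF0 : F (fun i => ((0 : Fin n → ℝ) i : UnitAddCircle)) = ∑' m, gauss A τ (iv m) := by
    show periodicTorus A τ _ = _
    rw [periodicTorus_mk]
    simp [periodic]
  rw [← tsum_mul_left, ← hF0]
  have := h0.tsum_eq
  simp only [Pi.zero_apply] at this ⊢
  rw [← this, ← L.tsum_eq]
  exact tsum_congr hcoef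

end CfsgLib.Theta
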