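import Cfsg.Agent.Lib.Theta.Gauss

/-!
The theta series of a rank-24 even unimodular lattice is a modular form of weight 12 and level 1.
-/

set_option autoImplicit false

noncomputable section

open MeasureTheory Matrix Complex Filter Topology Set UpperHalfPlane ModularForm CongruenceSubgroup
  SlashInvariantForm
open scoped Real MatrixGroups Manifold

namespace CfsgLib.Theta

/-- The data of an even unimodular lattice of rank 24 given by a real factor `A`. -/
structure EvenUnimodular24 where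
  A : Matrix (Fin 24) (Fin 24) ℝ
  N : (Fin 24 → ℤ) → ℕ
  L : (Fin 24 → ℤ) ≃ (Fin 24 → ℤ)
  detA : |A.det| = 1
  hN : ∀ m, sqA A (iv m) = 2 * (N m : ℝ)
  hL : ∀ l x, ∑ i, (L l i : ℝ) * x i = ∑ i, (A *ᵥ iv l) i * (A *ᵥ x) i

variable (E : EvenUnimodular24)

theorem EvenUnimodular24.det_ne_zero : E.A.det ≠ 0 := fun h => by simpa [h] using E.detA

/-- The theta series. -/
def theta (z : ℍ) : ℂ := ∑' m : Fin 24 → ℤ, gauss E.A z (iv m)

theorem gauss_eq_qParam_pow (τ : ℂ) (m : Fin 24 → ℤ) :
    gauss E.A τ (iv m) = Function.Periodic.qParam 1 τ ^ E.N m := by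
  rw [gauss, E.hN, Function.Periodic.qParam, ← Complex.exp_nat_mul]
  congr 1
  push_cast
  ring

theorem theta_T : theta E ∣[(12 : ℤ)] ModularGroup.T = theta E := by
  ext z
  rw [SL_slash_apply, modular_T_smul, ModularGroup.denom_apply]
  simp only [theta, gauss_eq_qParam_pow, UpperHalfPlane.coe_vadd]
  simp [Function.Periodic.qParam, mul_add, Complex.exp_add, ModularGroup.coe_T]

theorem theta_S : theta E ∣[(12 : ℤ)] ModularGroup.S = theta E := by
  ext z
  rw [slash_S_apply]
  have h := tsum_gauss_transform E.A E.detA (τ := (z : ℂ)) z.im_pos E.L E.hL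
  have h12 : ((24 : ℕ) / 2 : ℂ) = ((12 : ℕ) : ℂ) := by norm_num
  rw [h12, Complex.cpow_natCast] at h
  simp only [theta, UpperHalfPlane.coe_mk]
  rw [h, show (Complex.I / (z : ℂ)) ^ 12 = (z : ℂ) ^ (-(12 : ℤ)) by
    rw [div_pow, show Complex.I ^ 12 = 1 by norm_num [pow_succ, Complex.I_mul_I], one_div, _root_.zpow_neg]
    norm_cast]
  rw [mul_comm]
  congr 2 with l
  congr 1
  rw [inv_neg]

theorem theta_differentiable : MDiff (theta E) := by
  rw [UpperHalfPlane.mdifferentiable_iff]
  have h : ∀ δ : ℝ, 0 < δ → DifferentiableOn ℂ (fun w : ℂ => ∑' m : Fin 24 → ℤ, gauss E.A w (iv m))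
      {w : ℂ | δ < w.im} := by
    intro δ hδ
    refine differentiableOn_tsum_of_summable_norm
      (summable_exp_sqA E.A E.det_ne_zero (t := π * δ) (by positivity)) (fun m => ?_)
      (isOpen_lt continuous_const Complex.continuous_im) (fun m w hw => ?_)
    · unfold gauss
      fun_prop
    · rw [norm_gauss]
      apply Real.exp_le_exp.2
      have h0 : 0 ≤ sqA E.A (iv m) := by unfold sqA; positivity
      have hw' : δ < w.im := hw
      have := mul_le_mul_of_nonneg_left hw'.le (mul_nonneg Real.pi_pos.le h0)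
      nlinarith
  intro z hz
  have hz' : 0 < z.im := hz
  have hd := (h (z.im / 2) (by linarith)).differentiableAt
    ((isOpen_lt continuous_const Complex.continuous_im).mem_nhds
      (by show z.im / 2 < z.im; linarith))
  refine (hd.congr_of_eventuallyEq ?_).differentiableWithinAt
  filter_upwards [(isOpen_lt continuous_const Complex.continuous_im).mem_nhds hz'] with w hw
  simp [theta, ofComplex_apply_of_im_pos hw]

theorem theta_bounded : IsBoundedAtImInfty (theta E) := by
  rw [isBoundedAtImInfty_iff]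
  refine ⟨∑' m : Fin 24 → ℤ, Real.exp (-(π * sqA E.A (iv m))), 1, fun z hz => ?_⟩
  have hs := summable_exp_sqA E.A E.det_ne_zero (t := π) Real.pi_pos
  refine tsum_of_norm_bounded hs.hasSum fun m => ?_
  rw [norm_gauss]
  apply Real.exp_le_exp.2
  have h0 : 0 ≤ sqA E.A (iv m) := by unfold sqA; positivity
  have := mul_le_mul_of_nonneg_left hz (mul_nonneg Real.pi_pos.le h0)
  show -(π * (z : ℂ).im * sqA E.A (iv m)) ≤ _
  rw [UpperHalfPlane.coe_im]
  nlinarith

/-- The theta series as a modular form. -/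
def thetaForm : ModularForm 𝒮ℒ 12 where
  toFun := theta E
  slash_action_eq' A hA := by
    obtain ⟨A, rfl⟩ := hA
    exact slash_action_generators_SL2Z (theta_S E) (theta_T E) A
  holo' := theta_differentiable E
  bdd_at_cusps' {c} hc := by
    rw [Subgroup.IsArithmetic.isCusp_iff_isCusp_SL2Z] at hc
    rw [OnePoint.isBoundedAt_iff_forall_SL2Z hc]
    intro γ _
    rw [slash_action_generators_SL2Z (theta_S E) (theta_T E)]
    exact theta_bounded E

theorem finite_fibre (k : ℕ) : {m | E.N m = k}.Finite := by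
  have hs := summable_exp_sqA E.A E.det_ne_zero (t := 1) one_pos
  have := hs.tendsto_cofinite_zero.eventually_lt_const (Real.exp_pos (-(2 * (k : ℝ))))
  refine (Filter.eventually_cofinite.1 this).subset fun m hm => ?_
  simp only [Set.mem_setOf_eq] at hm ⊢
  simp [E.hN, hm]

theorem hasSum_theta (z : ℍ) :
    HasSum (fun k : ℕ => ({m | E.N m = k}.ncard : ℂ) • Function.Periodic.qParam 1 (z : ℂ) ^ k)
      (thetaForm E z) := by
  have h := (summable_gauss E.A E.det_ne_zero (τ := (z : ℂ)) z.im_pos).hasSum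
  rw [← (Equiv.sigmaFiberEquiv E.N).hasSum_iff] at h
  refine h.sigma fun k => ?_
  haveI : Fintype {m // E.N m = k} := (finite_fibre E k).fintype
  convert hasSum_fintype (fun m : {m // E.N m = k} => gauss E.A (z : ℂ) (iv (m : Fin 24 → ℤ))) using 1
  · rfl
  · rw [Finset.sum_congr rfl (fun m _ => by rw [gauss_eq_qParam_pow, m.2]), Finset.sum_const,
      Finset.card_univ, smul_eq_mul, nsmul_eq_mul, ← Nat.card_eq_fintype_card,
      ← Nat.card_coe_set_eq]
    rfl

theorem coeff_theta (k : ℕ) :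
    (qExpansion 1 (thetaForm E)).coeff k = ({m | E.N m = k}.ncard : ℂ) :=
  (ModularFormClass.qExpansion_coeff_unique one_pos one_mem_strictPeriods_SL (hasSum_theta E) k).symm

/-- The form `7/12 E₄³ + 5/12 E₆²`. -/
def leechForm : ModularForm 𝒮ℒ 12 :=
  (7 / 12 : ℂ) • ModularForm.mcast (by decide) (E₄.pow 3)
    + (5 / 12 : ℂ) • ModularForm.mcast (by decide) (E₆.pow 2)

theorem qExpansion_leechForm : qExpansion 1 leechForm =
    (7 / 12 : ℂ) • (qExpansion 1 E₄ * (qExpansion 1 E₄ * qExpansion 1 E₄))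
      + (5 / 12 : ℂ) • (qExpansion 1 E₆ * qExpansion 1 E₆) := by
  unfold leechForm
  rw [FunLike.coe_add, ModularForm.qExpansion_add one_pos one_mem_strictPeriods_SL,
    FunLike.coe_smul, FunLike.coe_smul, ModularForm.qExpansion_smul one_pos one_mem_strictPeriods_SL,
    ModularForm.qExpansion_smul one_pos one_mem_strictPeriods_SL, coe_mcast, coe_mcast,
    ModularForm.qExpansion_pow one_pos one_mem_strictPeriods_SL,
    ModularForm.qExpansion_pow one_pos one_mem_strictPeriods_SL]
  ring_nf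

theorem E4_coeff : (qExpansion 1 E₄).coeff 0 = 1 ∧ (qExpansion 1 E₄).coeff 1 = 240 ∧
    (qExpansion 1 E₄).coeff 2 = 2160 ∧ (qExpansion 1 E₄).coeff 3 = 6720 ∧
    (qExpansion 1 E₄).coeff 4 = 17520 := by
  refine ⟨?_, ?_, ?_, ?_, ?_⟩ <;>
  norm_num [EisensteinSeries.E_qExpansion_coeff _ ⟨2, rfl⟩,
    show bernoulli 4 = -1 / 30 by decide +kernel,
    show ArithmeticFunction.sigma 3 2 = 9 by decide +kernel,
    show ArithmeticFunction.sigma 3 3 = 28 by decide +kernel,
    show ArithmeticFunction.sigma 3 4 = 73 by decide +kernel]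

theorem E6_coeff : (qExpansion 1 E₆).coeff 0 = 1 ∧ (qExpansion 1 E₆).coeff 1 = -504 ∧
    (qExpansion 1 E₆).coeff 2 = -16632 ∧ (qExpansion 1 E₆).coeff 3 = -122976 ∧
    (qExpansion 1 E₆).coeff 4 = -532728 := by
  refine ⟨?_, ?_, ?_, ?_, ?_⟩ <;>
  norm_num [EisensteinSeries.E_qExpansion_coeff _ ⟨3, rfl⟩,
    show bernoulli 6 = 1 / 42 by decide +kernel,
    show ArithmeticFunction.sigma 5 2 = 33 by decide +kernel,
    show ArithmeticFunction.sigma 5 3 = 244 by decide +kernel,
    show ArithmeticFunction.sigma 5 4 = 1057 by decide +kernel]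

theorem leechForm_coeff : (qExpansion 1 leechForm).coeff 0 = 1 ∧ (qExpansion 1 leechForm).coeff 1 = 0 ∧
    (qExpansion 1 leechForm).coeff 2 = 196560 ∧ (qExpansion 1 leechForm).coeff 3 = 16773120 ∧
    (qExpansion 1 leechForm).coeff 4 = 398034000 := by
  obtain ⟨a0, a1, a2, a3, a4⟩ := E4_coeff
  obtain ⟨b0, b1, b2, b3, b4⟩ := E6_coeff
  simp only [qExpansion_leechForm, map_add, PowerSeries.coeff_smul, PowerSeries.coeff_mul,
    Finset.Nat.antidiagonal_succ, Finset.Nat.antidiagonal_zero, Finset.sum_cons,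
    Finset.sum_map, Finset.sum_singleton, Function.Embedding.coe_prodMap,
    Function.Embedding.coeFn_mk, Function.Embedding.refl_apply, Prod.map_apply, smul_eq_mul,
    a0, a1, a2, a3, a4, b0, b1, b2, b3, b4]
  norm_num [a0, a1, a2, a3, a4, b0, b1, b2, b3, b4]

theorem ncard_fibres (h0 : ∀ m, E.N m = 0 → m = 0) (h1 : ∀ m, E.N m ≠ 1) :
    {m | E.N m = 2}.ncard = 196560 ∧ {m | E.N m = 3}.ncard = 16773120 ∧
      {m | E.N m = 4}.ncard = 398034000 := by
  have hz : E.N 0 = 0 := by
    have := E.hN 0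
    simpa [sqA, iv, Matrix.mulVec, dotProduct] using this.symm
  have c0 : {m | E.N m = 0}.ncard = 1 := by
    rw [Set.ncard_eq_one]
    exact ⟨0, Set.ext fun m => ⟨h0 m, fun h => h ▸ hz⟩⟩
  have c1 : {m | E.N m = 1}.ncard = 0 := by
    rw [show {m | E.N m = 1} = ∅ from Set.eq_empty_of_forall_notMem fun m hm => h1 m hm,
      Set.ncard_empty]
  obtain ⟨l0, l1, l2, l3, l4⟩ := leechForm_coeff
  have heq : thetaForm E - leechForm = 0 := by
    apply sturm_bound_levelOne
    have hc : ∀ k < 2, (qExpansion 1 (⇑(thetaForm E) - ⇑leechForm)).coeff k = 0 := by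
      intro k hk
      rw [ModularForm.qExpansion_sub one_pos one_mem_strictPeriods_SL, map_sub, coeff_theta]
      interval_cases k <;> simp [c0, c1, l0, l1]
    calc ((((12 : ℤ).toNat / 12 : ℕ)) : ℕ∞) < ((2 : ℕ) : ℕ∞) := by
          norm_cast
      _ ≤ _ := PowerSeries.nat_le_order _ _ hc
  rw [sub_eq_zero] at heq
  have key : ∀ k, ({m | E.N m = k}.ncard : ℂ) = (qExpansion 1 leechForm).coeff k := fun k => by
    rw [← coeff_theta, heq]
  refine ⟨?_, ?_, ?_⟩
  · exact_mod_cast (key 2).trans l2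
  · exact_mod_cast (key 3).trans l3
  · exact_mod_cast (key 4).trans l4

end CfsgLib.Theta
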